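import Groth.Agent.Lib.NefH1.Fibre
import Groth.Agent.Lib.CurveCM.Span
import Groth.Agent.Lib.CurveAmple18.Main
import Groth.Agent.Lib.AmpleImm18.Over

/-!
# Products of sections span, over a noetherian base with vanishing second cohomology
-/

set_option autoImplicit false
set_option linter.style.haveILetI false
set_option maxHeartbeats 800000
set_option backward.isDefEq.respectTransparency false

universe u

open CategoryTheory CategoryTheory.Limits AlgebraicGeometry TopologicalSpace Opposite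

attribute [local instance] Abelian.hasFiniteBiproducts

noncomputable section

namespace Groth.Agent.NefH1

open Groth.Agent Groth.Agent.CurveCoh17 Groth.Agent.VA11

variable (R : Type u) [CommRing R] {X : Scheme.{u}} [X.Over (Spec (CommRingCat.of R))]

theorem hmap_sum {ι' : Type*} (t : Finset ι') {M N : X.Modules} (φ : ι' → (M ⟶ N)) (n : ℕ) (x : Coh.HH X M n) :
    hmap R (∑ i ∈ t, φ i) n x = ∑ i ∈ t, hmap R (φ i) n x := by
  induction t using Finset.cons_induction with
  | empty => simp [hmap_zero]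
  | cons a t ha ih => rw [Finset.sum_cons, Finset.sum_cons, ← ih]; exact hmap₀_add _ _ n x

include R in
theorem subsingleton_HH_biproduct {r : ℕ} (G : Fin r → X.Modules) (n : ℕ)
    (h : ∀ i, Subsingleton (Coh.HH X (G i) n)) : Subsingleton (Coh.HH X (⨁ G) n) := by
  refine subsingleton_of_forall_eq 0 fun x => ?_
  rw [← hmap_id R (⨁ G) n x, ← biproduct.total, hmap_sum]
  refine Finset.sum_eq_zero fun i _ => ?_
  rw [hmap_comp, (h i).elim (hmap R (biproduct.π G i) n x) 0, map_zero]

section span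

variable [IsNoetherian X] (hv2 : ∀ M : X.Modules, Coh.IsQCoh M → Subsingleton (Coh.HH X M 2))
  {L : X.Modules} (hL : PicF.IsInvertible L) {F : X.Modules} (hF : PicF.IsInvertible F) {r : ℕ}
  (s : Fin r → Γ(L, (⊤ : X.Opens))) (hs : ∀ x : X, ∃ i, x ∈ gl (s i))

include R hv2 hL hF hs

theorem subsingleton_h1_tensor (h : Subsingleton (Coh.HH X F 1)) :
    Subsingleton (Coh.HH X (CohB1.tensorMod F L) 1) := by
  haveI := CurveCM.epi_psi s hL hF hs
  haveI := subsingleton_HH_biproduct R (fun _ : Fin r => F) 1 fun _ => h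
  exact subsingleton_h1_of_epi R hv2 (CurveCM.psi F s) (CurveCM.isQCoh_biproduct hF)
    (Twist.isQCoh_of_isInvertible (M2.isInvertible_tensor hF hL))

/-- Every section of the second twist is a combination of products. -/
theorem exists_eq_sum_tsec (h : Subsingleton (Coh.HH X F 1))
    (t : Γ(CohB1.tensorMod (CohB1.tensorMod F L) L, (⊤ : X.Opens))) :
    ∃ y : Fin r → Γ(CohB1.tensorMod F L, (⊤ : X.Opens)), t = ∑ i, M2.tsec _ L (y i) (s i) := by
  have hFA := M2.isInvertible_tensor hF hL
  let ψ := CurveCM.psi (CohB1.tensorMod F L) s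
  haveI : Epi ψ := CurveCM.epi_psi s hL hFA hs
  have hK : Coh.IsQCoh (kernel ψ) := M1.isQCoh_kernel (CurveCM.isQCoh_biproduct hFA)
    (Twist.isQCoh_of_isInvertible (M2.isInvertible_tensor hFA hL)) _
  let φ := kernel.lift ψ (CurveCM.rel F s) (CurveCM.rel_psi s hL hF)
  haveI : Epi φ := (M1.epi_iff_stalk _).2 fun x a => by
    obtain ⟨i, hi⟩ := hs x
    obtain ⟨U, hU, a', rfl⟩ := TopCat.Presheaf.germ_exist _ a
    obtain ⟨W, hxW, hWU, hW⟩ := CurveCM.exists_rel_near s hL hF hi hU
    obtain ⟨z, hz⟩ := hW ((kernel.ι ψ).app W (M2.res _ hWU a')) (by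
      show (kernel.ι ψ ≫ ψ).app W (M2.res _ hWU a') = 0
      rw [kernel.condition]; rfl)
    refine ⟨(⨁ fun _ : Fin (r * r) => F).presheaf.germ W x hxW z, ?_⟩
    refine (M1.germ_naturality φ W x hxW z).trans ?_
    rw [show φ.app W z = M2.res _ hWU a' from M1.app_injective (kernel.ι ψ) W (by
      rw [← hz, ← ConcreteCategory.comp_apply, ← Scheme.Modules.Hom.comp_app, kernel.lift_ι])]
    exact Amp.gm_res hWU hxW a'
  haveI := subsingleton_HH_biproduct R (fun _ : Fin (r * r) => F) 1 fun _ => h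
  haveI hK1 := subsingleton_h1_of_epi R hv2 φ (CurveCM.isQCoh_biproduct hF) hK
  obtain ⟨w, hw⟩ := (exact_hmap_hdelta R (epiSC_shortExact ψ) 0 ((hh0 _).symm t)).1 (@Subsingleton.elim _ hK1 _ _)
  refine ⟨fun i => (biproduct.π (fun _ : Fin r => CohB1.tensorMod F L) i).app ⊤ (hh0 _ w), ?_⟩
  have h2 := congrArg (hh0 _) hw
  rw [hh0_hmap, AddEquiv.apply_symm_apply] at h2
  rw [← h2]
  show (CurveCM.psi (CohB1.tensorMod F L) s).app ⊤ _ = _
  rw [CurveCM.psi, biproduct.desc_eq, CurveCM.app_sum]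
  refine Finset.sum_congr rfl fun i _ => ?_
  rw [Scheme.Modules.Hom.comp_app, CategoryTheory.comp_apply, CurveCM.mulR_app, M1.mres_id]

end span

include R in
/-- Products with sections of a globally generated invertible module span all higher degrees. -/
theorem exists_eq_sum_pow [IsNoetherian X]
    (hv2 : ∀ M : X.Modules, Coh.IsQCoh M → Subsingleton (Coh.HH X M 2))
    (h1 : Subsingleton (Coh.HH X (Coh.structureModule X) 1)) {L : X.Modules} (hL : PicF.IsInvertible L)
    (hgg : Curv2.IsGloballyGenerated L) (p : ℕ) (t : Γ(CohB1.tensorPow L (p + 2), (⊤ : X.Opens))) :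
    ∃ (r : ℕ) (y : Fin r → Γ(CohB1.tensorPow L (p + 1), (⊤ : X.Opens))) (s : Fin r → Γ(L, (⊤ : X.Opens))),
      t = ∑ i, SecTwist.tmul (CohB1.tensorPow L (p + 1)) L ⊤ (y i) (s i) := by
  obtain ⟨r, s, hs⟩ := CurveCM.exists_gens_fin hL hgg
  have hv : ∀ q, Subsingleton (Coh.HH X (CohB1.tensorPow L q) 1) := fun q => by
    induction q with
    | zero => exact h1
    | succ q ih => exact subsingleton_h1_tensor R hv2 hL (Amp.isInvertible_tensorPow hL q) s hs ih
  obtain ⟨y, hy⟩ := exists_eq_sum_tsec R hv2 hL (Amp.isInvertible_tensorPow hL p) s hs (hv p) t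
  exact ⟨r, y, s, hy⟩

include R in
/-- The products generate each degree. -/
theorem closure_products_eq_top [IsNoetherian X]
    (hv2 : ∀ M : X.Modules, Coh.IsQCoh M → Subsingleton (Coh.HH X M 2))
    (h1 : Subsingleton (Coh.HH X (Coh.structureModule X) 1)) {L : X.Modules} (hL : PicF.IsInvertible L)
    (hgg : Curv2.IsGloballyGenerated L) (n : ℕ) (hn : 1 ≤ n) :
    AddSubgroup.closure {t | ∃ (m : (CohB1.tensorPow L n).val.obj (op ⊤)) (s : L.val.obj (op ⊤)),
      t = SecTwist.tmul (CohB1.tensorPow L n) L ⊤ m s} = ⊤ := by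
  obtain ⟨p, rfl⟩ : ∃ p, n = p + 1 := ⟨n - 1, by omega⟩
  refine eq_top_iff.2 fun t _ => ?_
  obtain ⟨r, y, s, rfl⟩ := exists_eq_sum_pow R hv2 h1 hL hgg p t
  exact AddSubgroup.sum_mem _ fun i _ => AddSubgroup.subset_closure ⟨y i, s i, rfl⟩

/-- An ample module has nonnegative degree on curves over a residue field. -/
theorem nefOver_of_isAmple [IsProper (X ↘ Spec (CommRingCat.of R))] {L : X.Modules} (hA : CohB1.IsAmple L)
    (K : Type u) [Field K] (q : R →+* K) : NefOver R K q L := by
  intro J t hJ hJ1 ht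
  letI : J.subscheme.Over (Spec (CommRingCat.of K)) := ⟨t⟩
  haveI : IsProper (t ≫ Spec.map (CommRingCat.ofHom q)) := by rw [ht]; infer_instance
  haveI : IsProper (J.subscheme ↘ Spec (CommRingCat.of K)) := IsProper.of_comp t (Spec.map (CommRingCat.ofHom q))
  haveI := hJ
  exact (CurveAmple18.deg_pos_of_isAmple (k := K) hJ1 (Amp.isAmple_pullback_of_isAffineHom J.subschemeι hA)).le

/-- A relatively very ample module over a field gives a closed immersion into projective space. -/
theorem exists_closedImmersion_of_pn (k : Type u) [Field k] {Y : Scheme.{u}} (q : Y ⟶ Spec (CommRingCat.of k))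
    [IsProper q] {L : Y.Modules} (h : RelAmple.IsRelVeryAmplePn q L) :
    ∃ (n : ℕ) (i : Y ⟶ CohB1.ProjSpace n k), IsClosedImmersion i ∧ i ≫ CohB1.ProjSpace.toSpec n k = q ∧
      Nonempty ((Scheme.Modules.pullback i).obj (_root_.Twist.twistProjSpace n k 1) ≅ L) := by
  obtain ⟨n, i, hi, hiq, ⟨e⟩⟩ := h
  obtain ⟨σ⟩ := AmpleImm18.nonempty_pullback_map_twist n k
  let j := i ≫ (ProjSpace.overSpecIso n k).inv
  have hj : j ≫ CohB1.ProjSpace.toSpec n k = q := by
    rw [Category.assoc, ← hiq]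
    congr 1
    rw [Iso.inv_comp_eq]
    exact (ProjSpace.overSpecIso_hom_toBase n k).symm
  haveI : IsProper (j ≫ CohB1.ProjSpace.toSpec n k) := by rw [hj]; infer_instance
  haveI : IsProper j := IsProper.of_comp j (CohB1.ProjSpace.toSpec n k)
  haveI : IsClosedImmersion j := IsClosedImmersion.of_isPreimmersion j j.isClosedMap.isClosed_range
  refine ⟨n, j, inferInstance, hj, ⟨?_⟩⟩
  let fY := pullback.fst (CohB1.ProjSpace.toSpec n (ULift.{u} ℤ)) (specULiftZIsTerminal.from (Spec (CommRingCat.of k)))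
  have e1 : j ≫ ProjSpace.map n (ProjSpace.fromZ k) = i ≫ fY := by
    rw [← ProjSpace.overSpecIso_hom_fst]
    simp [j, fY]
  exact (Scheme.Modules.pullback j).mapIso σ.symm ≪≫
    (Scheme.Modules.pullbackComp j (ProjSpace.map n (ProjSpace.fromZ k))).app _ ≪≫
    eqToIso (congrArg (fun f => (Scheme.Modules.pullback f).obj _) e1) ≪≫
    ((Scheme.Modules.pullbackComp i fY).app _).symm ≪≫ e.symm

end Groth.Agent.NefH1
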