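import Groth.Agent.Lib.CurveCoh17.LES
import Groth.Agent.Lib.CurveCoh17.Skyscraper
import Groth.Agent.Lib.CohFound.ProperFinite
import Groth.Agent.Lib.ShStab28.Sheaf
import Groth.Agent.Lib.ShStab28.Scalar
import Groth.Agent.Lib.RelAmple18.Generation
import Mathlib.RingTheory.Nakayama
import Mathlib.RingTheory.Noetherian.Basic

/-!
# First cohomology and sections of quotients of a module, by noetherian induction

For a proper scheme over a noetherian ring whose cohomology vanishes from degree two on and with `H¹(O) = 0`: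
if every nonzero quotient of `L` killed by a maximal ideal of the base has a nonzero section, then `H¹` of every
quotient of `L` vanishes and `L` is globally generated.
-/

set_option autoImplicit false
set_option linter.style.haveILetI false
set_option maxHeartbeats 800000
set_option backward.isDefEq.respectTransparency false

universe u

open CategoryTheory CategoryTheory.Limits AlgebraicGeometry TopologicalSpace Opposite

noncomputable section

namespace Groth.Agent.NefH1

open Groth.Agent Groth.Agent.CurveCoh17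

section noeth

variable {X : Scheme.{u}} [IsNoetherian X]

/-- Coherent submodules of a coherent module satisfy the ascending chain condition. -/
theorem wellFoundedGT_cohSub {E : X.Modules} (hE : Coh.IsCoh E) :
    WellFoundedGT {A : Subobject E // Coh.IsCoh (A : X.Modules)} := by
  haveI : ∀ U : X.affineOpens, IsNoetherianRing Γ(X, U.1) := fun U => IsLocallyNoetherian.component_noetherian U
  haveI : ∀ U : X.affineOpens, Module.Finite Γ(X, U.1) Γ(E, U.1) := fun U => M1.finite_sections hE.1 hE.2 U.2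
  obtain ⟨T, hT⟩ := isCompact_univ.elim_finite_subcover (fun U : X.affineOpens => (U.1 : Set X))
    (fun U => U.1.isOpen) (fun x _ => by
      obtain ⟨V, hV, hxV, -⟩ := exists_isAffineOpen_mem_and_subset (U := (⊤ : X.Opens)) (x := x) trivial
      exact Set.mem_iUnion.mpr ⟨⟨V, hV⟩, hxV⟩)
  let f : {A : Subobject E // Coh.IsCoh (A : X.Modules)} → ∀ U : T, Submodule Γ(X, U.1.1) Γ(E, U.1.1) :=
    fun A U => LinearMap.range
      ({ toFun := A.1.arrow.app U.1.1, map_add' := map_add (A.1.arrow.app U.1.1).hom,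
         map_smul' := A.1.arrow.app_smul } : Γ((A.1 : X.Modules), U.1.1) →ₗ[Γ(X, U.1.1)] Γ(E, U.1.1))
  have hmono : StrictMono f := by
    intro A B hlt
    have hle : A.1 ≤ B.1 := hlt.le
    have hfac : ∀ (V : X.Opens) (s : Γ((A.1 : X.Modules), V)),
        B.1.arrow.app V ((Subobject.ofLE A.1 B.1 hle).app V s) = A.1.arrow.app V s := fun V s => by
      conv_rhs => rw [← Subobject.ofLE_arrow hle]
      rfl
    refine lt_of_le_not_ge (fun U => ?_) fun hge => hlt.not_ge ?_
    · rintro _ ⟨s, rfl⟩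
      exact ⟨(Subobject.ofLE A.1 B.1 hle).app _ s, hfac _ s⟩
    · show B.1 ≤ A.1
      let g := Subobject.ofLE A.1 B.1 hle
      have hz : IsZero (cokernel g) := by
        refine Snapper.isZero_of_support_empty (Set.eq_empty_of_forall_notMem fun x hx => ?_)
        obtain ⟨U, hU, hxU⟩ := Set.mem_iUnion₂.mp (hT (Set.mem_univ x))
        refine hx ⟨fun a b => ?_⟩
        have hs : Function.Surjective (g.app U.1) := fun t => by
          obtain ⟨s, hs⟩ := hge ⟨U, hU⟩ ⟨t, rfl⟩
          exact ⟨s, M1.app_injective B.1.arrow U.1 ((hfac _ s).trans hs)⟩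
        exact (ShStab28.eq_zero_stalk_cokernel_of_surjective A.2.1 B.2.1 g U.2 hs hxU a).trans
          (ShStab28.eq_zero_stalk_cokernel_of_surjective A.2.1 B.2.1 g U.2 hs hxU b).symm
      haveI : Epi g := Preadditive.epi_of_cokernel_zero (hz.eq_of_tgt _ _)
      haveI := isIso_of_mono_of_epi g
      exact Subobject.le_of_comm (inv g) (by simp [g])
  haveI hN : ∀ U : T, IsNoetherian Γ(X, U.1.1) Γ(E, U.1.1) := fun U => isNoetherian_of_isNoetherianRing_of_finite _ _
  haveI : ∀ U : T, WellFoundedLT (Submodule Γ(X, U.1.1) Γ(E, U.1.1))ᵒᵈ := fun U => inferInstance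
  haveI hw : WellFoundedLT (∀ U : T, (Submodule Γ(X, U.1.1) Γ(E, U.1.1))ᵒᵈ) := inferInstance
  exact ⟨(InvImage.wf (fun A => (fun U => OrderDual.toDual (f A U) : ∀ U : T, (Submodule Γ(X, U.1.1) Γ(E, U.1.1))ᵒᵈ))
    hw.wf).mono fun A B h => hmono h⟩

/-- Noetherian induction on the coherent quotients of a coherent module. -/
theorem quot_induction {L : X.Modules} (hL : Coh.IsCoh L) (P : X.Modules → Prop)
    (step : ∀ (Q : X.Modules) (π : L ⟶ Q), Epi π → Coh.IsCoh Q →
      (∀ (Q' : X.Modules) (r : Q ⟶ Q'), Epi r → Coh.IsCoh Q' → ¬ Mono r → P Q') → P Q)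
    (Q : X.Modules) (π : L ⟶ Q) [Epi π] (hQ : Coh.IsCoh Q) : P Q := by
  haveI := wellFoundedGT_cohSub hL
  suffices h : ∀ K : {A : Subobject L // Coh.IsCoh (A : X.Modules)}, ∀ (Q : X.Modules) (π : L ⟶ Q),
      Epi π → Coh.IsCoh Q → kernelSubobject π = K.1 → P Q by
    exact h ⟨kernelSubobject π, CohFound.isCoh_of_iso (kernelSubobjectIso π).symm
      (M1.isCoh_kernel hL hQ.1 π)⟩ Q π inferInstance hQ rfl
  intro K
  induction K using WellFoundedGT.induction with
  | _ K IH =>
  intro Q π hπ hQ hK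
  refine step Q π hπ hQ fun Q' r hr hQ' hmono => ?_
  haveI := hπ
  haveI := hr
  refine IH ⟨kernelSubobject (π ≫ r), CohFound.isCoh_of_iso (kernelSubobjectIso _).symm
    (M1.isCoh_kernel hL hQ'.1 _)⟩ ?_ Q' (π ≫ r) (epi_comp π r) hQ' rfl
  have hle : K.1 ≤ kernelSubobject (π ≫ r) := hK ▸ kernelSubobject_comp_le π r
  refine lt_of_le_not_ge hle fun hge => hmono ?_
  have hge' : kernelSubobject (π ≫ r) ≤ kernelSubobject π := hK ▸ hge
  have h0 : kernel.ι (π ≫ r) ≫ π = 0 := by
    have h := Subobject.ofLE_arrow hge'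
    rw [← cancel_epi (kernelSubobjectIso (π ≫ r)).hom, ← Category.assoc, kernelSubobject_arrow, ← h,
      Category.assoc, kernelSubobject_arrow_comp, comp_zero, comp_zero]
  refine Preadditive.mono_of_cancel_zero r fun {W} w hw => ?_
  let p : pullback w π ⟶ W := pullback.fst w π
  have h1 : pullback.snd w π ≫ π ≫ r = 0 := by
    rw [← Category.assoc, ← pullback.condition, Category.assoc, hw, comp_zero]
  have h2 : pullback.snd w π ≫ π = 0 := by
    rw [← kernel.lift_ι (π ≫ r) _ h1, Category.assoc, h0, comp_zero]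
  have h3 : p ≫ w = 0 := (pullback.condition).trans h2
  exact zero_of_epi_comp p h3

end noeth

section coh

variable {X : Scheme.{u}} (A : Type u) [CommRing A] [X.Over (Spec (CommRingCat.of A))]

/-- Multiplication by an element of the base ring. -/
def gact (M : X.Modules) (a : A) : M ⟶ M :=
  ThetaGrp19.smulHom M (Coh.toGlobal (X ↘ Spec (CommRingCat.of A)) a)

theorem gact_natural {M N : X.Modules} (φ : M ⟶ N) (a : A) : gact A M a ≫ φ = φ ≫ gact A N a :=
  ThetaGrp19.smulHom_naturality φ _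

theorem gact_one (M : X.Modules) : gact A M 1 = 𝟙 M := by
  rw [gact, map_one, ThetaGrp19.smulHom_one]

theorem hmap_gact (M : X.Modules) (a : A) (n : ℕ) (x : Coh.HH X M n) :
    hmap A (gact A M a) n x = a • x := by
  apply (CohFound.hhExt M n).injective
  rw [hhExt_hmap]
  refine Eq.trans ?_ (hhExt_smul n (Coh.toGlobal (X ↘ Spec (CommRingCat.of A)) a) x).symm
  congr 2

/-- `0 → kernel → M → N → 0`. -/
abbrev epiSC {M N : X.Modules} (π : M ⟶ N) : ShortComplex X.Modules :=
  ShortComplex.mk (kernel.ι π) π (kernel.condition π)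

theorem epiSC_shortExact {M N : X.Modules} (π : M ⟶ N) [Epi π] : (epiSC π).ShortExact where
  exact := ShortComplex.exact_of_f_is_kernel _ (kernelIsKernel π)

/-- `H¹` is right exact once `H²` vanishes. -/
theorem surjective_h1 [IsNoetherian X] (hv2 : ∀ M : X.Modules, Coh.IsQCoh M → Subsingleton (Coh.HH X M 2))
    {M N : X.Modules} (π : M ⟶ N) [Epi π] (hM : Coh.IsQCoh M) (hN : Coh.IsQCoh N) :
    Function.Surjective (hmap A π 1) := fun y => by
  haveI := hv2 (kernel π) (M1.isQCoh_kernel hM hN π)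
  exact (exact_hmap_hdelta A (epiSC_shortExact π) 1 y).1
    (Subsingleton.elim (α := Coh.HH X (kernel π) 2) _ _)

include A in
theorem subsingleton_h1_of_epi [IsNoetherian X] (hv2 : ∀ M : X.Modules, Coh.IsQCoh M → Subsingleton (Coh.HH X M 2))
    {M N : X.Modules} (π : M ⟶ N) [Epi π] (hM : Coh.IsQCoh M) (hN : Coh.IsQCoh N)
    [Subsingleton (Coh.HH X M 1)] : Subsingleton (Coh.HH X N 1) :=
  (surjective_h1 A hv2 π hM hN).subsingleton

include A in
theorem subsingleton_h1_mid {S : ShortComplex X.Modules} (hS : S.ShortExact)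
    [Subsingleton (Coh.HH X S.X₁ 1)] [Subsingleton (Coh.HH X S.X₃ 1)] : Subsingleton (Coh.HH X S.X₂ 1) :=
  subsingleton_of_forall_eq 0 fun x => by
    obtain ⟨y, hy⟩ := (exact_hmap_hmap A hS 1 x).1 (Subsingleton.elim _ _)
    rw [← hy, Subsingleton.elim y 0, map_zero]

include A in
/-- Sections lift along a surjection whose kernel has no `H¹`. -/
theorem exists_lift {S : ShortComplex X.Modules} (hS : S.ShortExact) [Subsingleton (Coh.HH X S.X₁ 1)]
    (τ : Coh.structureModule X ⟶ S.X₃) : ∃ σ : Coh.structureModule X ⟶ S.X₂, σ ≫ S.g = τ := by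
  obtain ⟨w, hw⟩ := (exact_hmap_hdelta A hS 0 ((hh0 _).symm (τ.app ⊤ (M1.one ⊤)))).1 (Subsingleton.elim _ _)
  refine ⟨M1.secHom (hh0 _ w), M1.unit_hom_ext ?_⟩
  rw [Scheme.Modules.Hom.comp_app, CategoryTheory.comp_apply, M1.secHom_app_one, ← hh0_hmap A, hw,
    AddEquiv.apply_symm_apply]

include A in
/-- An element of the base ring outside of no maximal ideal of a point of the support cannot act surjectively. -/
theorem not_isZero_cokernel_gact {C : X.Modules} (hC : Coh.IsCoh C) {x : X} (hx : x ∈ CohB1.support C)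
    (a : A) (ha : ¬ IsUnit (X.presheaf.germ ⊤ x trivial (Coh.toGlobal (X ↘ Spec (CommRingCat.of A)) a))) :
    ¬ IsZero (cokernel (gact A C a)) := fun hz => by
  haveI : Epi (gact A C a) := Preadditive.epi_of_cokernel_zero (hz.eq_of_tgt _ _)
  have hs : Function.Surjective (stalkLin (gact A C a) x) := (M1.epi_iff_stalk (gact A C a)).1 inferInstance x
  haveI := M1.finite_stalk hC.1 hC.2 x
  let c := X.presheaf.germ ⊤ x trivial (Coh.toGlobal (X ↘ Spec (CommRingCat.of A)) a)
  have htop : (⊤ : Submodule (X.presheaf.stalk x) (C.presheaf.stalk x)) ≤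
      IsLocalRing.maximalIdeal (X.presheaf.stalk x) • ⊤ := fun b _ => by
    obtain ⟨b', rfl⟩ := hs b
    rw [show stalkLin (gact A C a) x b' = c • b' from ShStab28.stalk_smulHom _ _ _ _]
    exact Submodule.smul_mem_smul ((IsLocalRing.mem_maximalIdeal c).2 ha) trivial
  have hbot := Submodule.eq_bot_of_le_smul_of_le_jacobson_bot _ _
    (Module.Finite.fg_top (R := X.presheaf.stalk x) (M := C.presheaf.stalk x)) htop
    (by rw [IsLocalRing.jacobson_eq_maximalIdeal ⊥ bot_ne_top])
  refine hx ⟨fun b b' => ?_⟩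
  have : ∀ d : C.presheaf.stalk x, d = 0 := fun d =>
    (Submodule.mem_bot (X.presheaf.stalk x)).1 (hbot ▸ Submodule.mem_top)
  rw [this b, this b']

end coh

section main

variable {A : Type u} [CommRing A] [IsNoetherianRing A] {X : Scheme.{u}} [X.Over (Spec (CommRingCat.of A))]
  [IsProper (X ↘ Spec (CommRingCat.of A))]

/-- Quotients killed by a maximal ideal have sections. -/
def FibreSec (A : Type u) [CommRing A] [X.Over (Spec (CommRingCat.of A))] (L : X.Modules) : Prop :=
  ∀ (Q : X.Modules) (π : L ⟶ Q), Epi π → Coh.IsCoh Q → ¬ IsZero Q → ∀ m : Ideal A, m.IsMaximal →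
    (∀ a ∈ m, gact A Q a = 0) → ∃ s : Coh.structureModule X ⟶ Q, s ≠ 0

/-- The annihilator. -/
def ann (A : Type u) [CommRing A] [X.Over (Spec (CommRingCat.of A))] (Q : X.Modules) : Ideal A where
  carrier := {a | gact A Q a = 0}
  zero_mem' := Scheme.Modules.hom_ext _ _ fun V => by
    ext s
    show (gact A Q 0).app V s = 0
    rw [gact, ThetaGrp19.smulHom_app, map_zero, map_zero, zero_smul]
  add_mem' {a b} ha hb := Scheme.Modules.hom_ext _ _ fun V => by
    ext s
    have h1 := congrArg (fun φ : Q ⟶ Q => φ.app V s) (show gact A Q a = 0 from ha)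
    have h2 := congrArg (fun φ : Q ⟶ Q => φ.app V s) (show gact A Q b = 0 from hb)
    show (gact A Q (a + b)).app V s = 0
    simp only [gact, ThetaGrp19.smulHom_app] at h1 h2 ⊢
    rw [map_add, map_add, add_smul, h1, h2]
    simp
  smul_mem' c a ha := by
    show gact A Q (c * a) = 0
    rw [gact, map_mul, ← ThetaGrp19.smulHom_comp]
    show gact A Q c ≫ gact A Q a = 0
    rw [show gact A Q a = 0 from ha, comp_zero]

/-- `H¹ = 0` for every quotient, and sections of it see all its quotients. -/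
theorem core (hv2 : ∀ M : X.Modules, Coh.IsQCoh M → Subsingleton (Coh.HH X M 2))
    (h1 : Subsingleton (Coh.HH X (Coh.structureModule X) 1)) {L : X.Modules} (hL : Coh.IsCoh L)
    (hfld : FibreSec A L) (Q : X.Modules) (π : L ⟶ Q) [Epi π] (hQ : Coh.IsCoh Q) :
    Subsingleton (Coh.HH X Q 1) ∧ ∀ (C : X.Modules) (p : Q ⟶ C), Epi p → Coh.IsCoh C → ¬ IsZero C →
      ∃ t : Coh.structureModule X ⟶ Q, t ≫ p ≠ 0 := by
  haveI : IsNoetherian X := CohFound.isNoetherian_of_isProper (X ↘ Spec (CommRingCat.of A))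
  refine quot_induction hL (fun Q => Subsingleton (Coh.HH X Q 1) ∧ ∀ (C : X.Modules) (p : Q ⟶ C), Epi p →
    Coh.IsCoh C → ¬ IsZero C → ∃ t : Coh.structureModule X ⟶ Q, t ≫ p ≠ 0) ?_ Q π hQ
  intro Q π hπ hQ IH
  by_cases hQ0 : IsZero Q
  · refine ⟨?_, fun C p hp _ hC => absurd ((IsZero.iff_id_eq_zero C).2 ?_) hC⟩
    · refine subsingleton_of_forall_eq 0 fun x => ?_
      rw [← hmap_id A Q 1 x, (IsZero.iff_id_eq_zero Q).1 hQ0, hmap_zero]
    · rw [← cancel_epi p, hQ0.eq_of_src p 0, zero_comp, zero_comp]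
  have hne : ann A Q ≠ ⊤ := fun h => hQ0 <| (IsZero.iff_id_eq_zero Q).2 <| by
    rw [← gact_one A Q]
    exact (Ideal.eq_top_iff_one _).1 h
  -- the quotient by a nonzero endomorphism is proper
  have hproper : ∀ {M : X.Modules} (φ : M ⟶ Q), φ ≠ 0 → ¬ Mono (cokernel.π φ) := fun φ hφ hm =>
    hφ (by rw [← cancel_mono (cokernel.π φ), cokernel.condition, zero_comp])
  have hQa : ∀ a : A, a ∉ ann A Q → Subsingleton (Coh.HH X (cokernel (gact A Q a)) 1) ∧
      ∀ (C : X.Modules) (p : cokernel (gact A Q a) ⟶ C), Epi p → Coh.IsCoh C → ¬ IsZero C →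
        ∃ t : Coh.structureModule X ⟶ cokernel (gact A Q a), t ≫ p ≠ 0 := fun a ha =>
    IH _ (cokernel.π (gact A Q a)) inferInstance (M1.isCoh_cokernel hQ.1 hQ _) (hproper _ ha)
  -- the case of a maximal annihilator
  by_cases hmax : (ann A Q).IsMaximal
  · obtain ⟨s, hs⟩ := hfld Q π hπ hQ hQ0 _ hmax fun a ha => ha
    obtain ⟨hc1, hc⟩ := IH _ (cokernel.π s) inferInstance
      (M1.isCoh_cokernel (M1.isQCoh_structureModule X) hQ s) (hproper s hs)
    haveI := hc1
    haveI : Subsingleton (Coh.HH X (Abelian.image s) 1) :=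
      subsingleton_h1_of_epi A hv2 (Abelian.factorThruImage s) (M1.isQCoh_structureModule X)
        (M1.isQCoh_kernel hQ.1 (M1.isQCoh_cokernel (M1.isQCoh_structureModule X) hQ.1 s) _)
    refine ⟨subsingleton_h1_mid A (cokerSC_shortExact s), fun C p hp hC hC0 => ?_⟩
    by_cases hsp : s ≫ p = 0
    · haveI := hp
      haveI : Epi (cokernel.desc s p hsp) := epi_of_epi_fac (cokernel.π_desc s p hsp)
      obtain ⟨t, ht⟩ := hc C (cokernel.desc s p hsp) inferInstance hC hC0
      obtain ⟨σ, hσ⟩ := exists_lift A (cokerSC_shortExact s) t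
      refine ⟨σ, fun h0 => ht ?_⟩
      rw [← hσ]
      simpa using h0
    · exact ⟨s, hsp⟩
  have hsub : Subsingleton (Coh.HH X Q 1) := by
    by_contra hns
    haveI := CohFound.finite_HH_of_isProper (A := A) Q hQ 1
    let M := Coh.HH X Q 1
    have hann : ann A Q ≤ Module.annihilator A M := fun a ha => Module.mem_annihilator.2 fun x => by
      rw [← hmap_gact A Q a 1 x, show gact A Q a = 0 from ha, hmap_zero]
    have hM : Module.annihilator A M ≠ ⊤ := fun h => hns <| subsingleton_of_forall_eq 0 fun x => by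
      rw [← one_smul A x]
      exact Module.mem_annihilator.1 ((Ideal.eq_top_iff_one _).1 h) x
    obtain ⟨m, hm, hle⟩ := Ideal.exists_le_maximal _ hM
    obtain ⟨a, ham, haI⟩ := Set.exists_of_ssubset (SetLike.coe_ssubset_coe.2 (lt_of_le_of_ne (hann.trans hle) fun e => hmax (e.symm ▸ hm)))
    haveI := (hQa a haI).1
    haveI hqI : Coh.IsQCoh (Abelian.image (gact A Q a)) :=
      M1.isQCoh_kernel hQ.1 (M1.isQCoh_cokernel hQ.1 hQ.1 _) _
    have hsurj : ∀ y : M, ∃ x : M, a • x = y := fun y => by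
      obtain ⟨z, hz⟩ := (exact_hmap_hmap A (cokerSC_shortExact (gact A Q a)) 1 y).1 (Subsingleton.elim _ _)
      obtain ⟨x, hx⟩ := surjective_h1 A hv2 (Abelian.factorThruImage (gact A Q a)) hQ.1 hqI z
      refine ⟨x, ?_⟩
      have h2 := hmap_comp A (Abelian.factorThruImage (gact A Q a)) (Abelian.image.ι (gact A Q a)) 1 x
      rw [Abelian.image.fac, hmap_gact, hx] at h2
      exact h2.trans hz
    have htop : (⊤ : Submodule A M) ≤ m • ⊤ := fun y _ => by
      obtain ⟨x, rfl⟩ := hsurj y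
      exact Submodule.smul_mem_smul ham trivial
    obtain ⟨r, hr1, hr0⟩ :=
      Submodule.exists_sub_one_mem_and_smul_eq_zero_of_fg_of_le_smul m ⊤ Module.Finite.fg_top htop
    have : r ∈ m := hle (Module.mem_annihilator.2 fun x => hr0 x trivial)
    exact hm.ne_top ((Ideal.eq_top_iff_one m).2 (by simpa using sub_mem this hr1))
  refine ⟨hsub, fun C p hp hC hC0 => ?_⟩
  haveI := hp
  obtain ⟨x₀, hx₀⟩ : (CohB1.support C).Nonempty := by
    rw [Set.nonempty_iff_ne_empty]
    exact fun h => hC0 (Snapper.isZero_of_support_empty h)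
  obtain ⟨x, hxS, hxcl⟩ := (M1.isClosed_support hC.2).exists_closed_singleton ⟨x₀, hx₀⟩
  let f := X ↘ Spec (CommRingCat.of A)
  have hmcl : IsClosed ({f x} : Set (Spec (CommRingCat.of A))) := by
    rw [← Set.image_singleton]
    exact f.isClosedMap _ hxcl
  have hm : (f x).asIdeal.IsMaximal := (PrimeSpectrum.isClosed_singleton_iff_isMaximal _).1 hmcl
  obtain ⟨a, ham, haI⟩ : ∃ a ∈ (f x).asIdeal, a ∉ ann A Q := by
    by_contra h
    push_neg at h
    exact hmax ((hm.eq_of_le hne h) ▸ hm)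
  have hunit : ¬ IsUnit (X.presheaf.germ ⊤ x trivial (Coh.toGlobal (X ↘ Spec (CommRingCat.of A)) a)) := fun hu => by
    have h1 : x ∈ X.basicOpen (Coh.toGlobal f a) := (X.mem_basicOpen (Coh.toGlobal f a) x (show x ∈ (⊤ : X.Opens) from trivial)).2 hu
    have h2 : (Coh.toGlobal f a) = f.appTop ((Scheme.ΓSpecIso (CommRingCat.of A)).inv a) := rfl
    rw [h2, ← Scheme.preimage_basicOpen_top] at h1
    have h3 : f x ∈ (Spec (CommRingCat.of A)).basicOpen ((Scheme.ΓSpecIso (CommRingCat.of A)).inv a) := h1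
    rw [basicOpen_eq_of_affine] at h3
    simp at h3
    exact h3 ham
  let p' := p ≫ cokernel.π (gact A C a)
  have hp' : gact A Q a ≫ p' = 0 := by
    rw [← Category.assoc, gact_natural, Category.assoc, cokernel.condition, comp_zero]
  haveI : Epi p' := epi_comp _ _
  haveI : Epi (cokernel.desc (gact A Q a) p' hp') := epi_of_epi_fac (cokernel.π_desc _ p' hp')
  obtain ⟨hc1, hc⟩ := hQa a haI
  obtain ⟨t, ht⟩ := hc _ (cokernel.desc (gact A Q a) p' hp') inferInstance
    (M1.isCoh_cokernel hC.1 hC _) (not_isZero_cokernel_gact A hC hxS a hunit)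
  haveI := hsub
  haveI : Subsingleton (Coh.HH X (Abelian.image (gact A Q a)) 1) :=
    subsingleton_h1_of_epi A hv2 (Abelian.factorThruImage (gact A Q a)) hQ.1
      (M1.isQCoh_kernel hQ.1 (M1.isQCoh_cokernel hQ.1 hQ.1 _) _)
  obtain ⟨σ, hσ⟩ := exists_lift A (cokerSC_shortExact (gact A Q a)) t
  refine ⟨σ, fun h0 => ht ?_⟩
  rw [← hσ]
  simp only [Category.assoc, cokernel.π_desc, p']
  rw [← Category.assoc, h0, zero_comp]

include A in
/-- The conclusion for the module itself. -/
theorem h1_and_globallyGenerated (hv2 : ∀ M : X.Modules, Coh.IsQCoh M → Subsingleton (Coh.HH X M 2))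
    (h1 : Subsingleton (Coh.HH X (Coh.structureModule X) 1)) {L : X.Modules} (hL : Coh.IsCoh L)
    (hfld : FibreSec A L) : Subsingleton (Coh.HH X L 1) ∧ Curv2.IsGloballyGenerated L := by
  haveI : IsNoetherian X := CohFound.isNoetherian_of_isProper (X ↘ Spec (CommRingCat.of A))
  obtain ⟨h, hg⟩ := core hv2 h1 hL hfld L (𝟙 L) hL
  refine ⟨h, _, M1.freeHom (fun t : Γ(L, ⊤) => t), ?_⟩
  refine Preadditive.epi_of_cokernel_zero ?_
  by_contra h0
  obtain ⟨t, ht⟩ := hg _ (cokernel.π (M1.freeHom (fun t : Γ(L, ⊤) => t))) inferInstance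
    (M1.isCoh_cokernel (M1.isQCoh_fr X _) hL _) fun hz => h0 (hz.eq_of_tgt _ _)
  refine ht ?_
  rw [show t = M1.ιF (t.app ⊤ (M1.one ⊤)) ≫ M1.freeHom (fun t : Γ(L, ⊤) => t) by
    rw [M1.ιF_freeHom]; exact M1.unit_hom_ext (M1.secHom_app_one _).symm]
  rw [Category.assoc, cokernel.condition, comp_zero]

end main

end Groth.Agent.NefH1
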