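import Groth.Agent.Lib.NefH1.Core
import Groth.Agent.Lib.NumPoly18.StrictNef
import Groth.Agent.Lib.CurveCoh17.AffPush
import Groth.Agent.Lib.Algz3.ClosedSub
import Groth.Agent.Lib.TensorMod.Dual
import Groth.Agent.Lib.VanFib13.Vanish

/-!
# Sections of quotients of nef modules on a fibre
-/

set_option autoImplicit false
set_option linter.style.haveILetI false
set_option maxHeartbeats 800000
set_option backward.isDefEq.respectTransparency false

universe u

open CategoryTheory CategoryTheory.Limits AlgebraicGeometry TopologicalSpace Opposite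

noncomputable section

namespace Groth.Agent.NefH1

open Groth.Agent Groth.Agent.CurveCoh17

section field

variable (K : Type u) [Field K] {Z : Scheme.{u}} [Z.Over (Spec (CommRingCat.of K))]
  [IsProper (Z ↘ Spec (CommRingCat.of K))]

include K in
/-- A nef module on a proper curve without `H¹(O)` has a section. -/
theorem nontrivial_h0 [Nonempty Z] (hd : topologicalKrullDim Z ≤ 1)
    (h1 : Subsingleton (Coh.HH Z (Coh.structureModule Z) 1)) {L : Z.Modules} (hL : PicF.IsInvertible L)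
    (hnef : ∀ C : Z.IdealSheafData, AlgebraicGeometry.IsIntegral C.subscheme → topologicalKrullDim C.subscheme = 1 →
      0 ≤ @Curv2.deg K _ C.subscheme ⟨C.subschemeι ≫ (Z ↘ (Spec (CommRingCat.of K)))⟩
        ((Scheme.Modules.pullback C.subschemeι).obj L) 1) :
    Nontrivial (Coh.HH Z L 0) := by
  haveI : IsNoetherian Z := CohFound.isNoetherian_of_isProper (Z ↘ (Spec (CommRingCat.of K)))
  haveI : Z.IsSeparated := CurveAmple18.isSeparated K Z
  have hO : Coh.IsCoh (Coh.structureModule Z) := M1.isCoh_structureModule Z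
  have hLc : Coh.IsCoh L := Snapper.isCoh_of_isInvertible hL
  have hdeg : 0 ≤ Curv2.deg K Z L 1 := by
    refine NumPoly18.deg_nonneg_of_nef_dim_one K hd hL fun C hC hCd => ?_
    letI : C.subscheme.Over (Spec (CommRingCat.of K)) := ⟨C.subschemeι ≫ (Z ↘ (Spec (CommRingCat.of K)))⟩
    haveI : IsProper (C.subscheme ↘ (Spec (CommRingCat.of K))) :=
      inferInstanceAs (IsProper (C.subschemeι ≫ (Z ↘ (Spec (CommRingCat.of K)))))
    rw [show ClSub.quotMod C = (Scheme.Modules.pushforward C.subschemeι).obj (Coh.structureModule C.subscheme) from rfl,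
      NumPoly18.cdeg_push C.subschemeι rfl hL]
    exact_mod_cast hnef C hC ((AmpleFin18.dim_subscheme C rfl).trans hCd)
  have hadm : ∀ M : Z.Modules, Coh.IsCoh M → Adm K M := fun M hM =>
    ⟨fun n => CohFound.finite_HH_of_isProper M hM n, CurveCoh17.subsingleton_HH_of_dim hd M hM.1⟩
  haveI := (hadm _ hO).fin 0
  haveI := (hadm _ hLc).fin 0
  haveI : Nontrivial (Coh.HH Z (Coh.structureModule Z) 0) := by
    obtain ⟨z⟩ := (inferInstance : Nonempty Z)
    haveI : Nontrivial Γ(Z, ⊤) := (Z.presheaf.germ ⊤ z trivial).hom.domain_nontrivial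
    exact ((hh0 (Coh.structureModule Z)).toEquiv).nontrivial_congr.2 (inferInstanceAs (Nontrivial Γ(Z, ⊤)))
  have hpos := Module.finrank_pos (R := K) (M := Coh.HH Z (Coh.structureModule Z) 0)
  haveI := h1
  rw [Curv2.deg, Nat.cast_one, one_mul, (hadm _ hLc).euler_eq, (hadm _ hO).euler_eq,
    Module.finrank_zero_of_subsingleton (M := Coh.HH Z (Coh.structureModule Z) 1)] at hdeg
  exact Module.nontrivial_of_finrank_pos (R := K) (by omega)

end field

/-- The degree does not change along an isomorphism. -/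
theorem deg_pullback_iso (K : Type u) [Field K] {Y Y' : Scheme.{u}} [Y.Over (Spec (CommRingCat.of K))]
    [Y'.Over (Spec (CommRingCat.of K))] [IsProper (Y ↘ Spec (CommRingCat.of K))] (e : Y' ⟶ Y) [IsIso e]
    (he : e ≫ (Y ↘ Spec (CommRingCat.of K)) = Y' ↘ Spec (CommRingCat.of K)) {L : Y.Modules}
    (hL : PicF.IsInvertible L) :
    Curv2.deg K Y' ((Scheme.Modules.pullback e).obj L) 1 = Curv2.deg K Y L 1 := by
  have h := NumPoly18.cdeg_push (k := K) e he hL
  obtain ⟨u⟩ := NumPoly18.nonempty_push_unit_of_isIso e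
  have h2 : NumPoly18.cdeg K L (Coh.structureModule Y) = (Curv2.deg K Y L 1 : ℚ) := by
    rw [NumPoly18.cdeg_eq, euler_iso (M2.tensorLUnit L), Curv2.deg]
    push_cast
    ring
  rw [show NumPoly18.cdeg K L ((Scheme.Modules.pushforward e).obj (Coh.structureModule Y')) =
    NumPoly18.cdeg K L (Coh.structureModule Y) from NumPoly18.md_iso _ u, h2] at h
  exact_mod_cast h.symm

/-- Two quotients of a module with the same kernel on sections are isomorphic. -/
theorem nonempty_iso_of_same_ker {X : Scheme.{u}} {M P P' : X.Modules} (φ : M ⟶ P) (ψ : M ⟶ P') [Epi φ] [Epi ψ]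
    (h : ∀ (U : X.affineOpens) (r : Γ(M, U.1)), φ.app U.1 r = 0 ↔ ψ.app U.1 r = 0) : Nonempty (P ≅ P') := by
  have key : ∀ {P P' : X.Modules} (φ : M ⟶ P) (ψ : M ⟶ P'),
      (∀ (U : X.affineOpens) (r : Γ(M, U.1)), φ.app U.1 r = 0 → ψ.app U.1 r = 0) → kernel.ι φ ≫ ψ = 0 := by
    intro P P' φ ψ h
    refine Scheme.Modules.hom_ext _ _ fun V => ?_
    ext s
    have hcov : ∀ x : V, ∃ U : X.affineOpens, (x : X) ∈ U.1 ∧ U.1 ≤ V := fun x => by
      obtain ⟨U, hU, hxU, hUV⟩ := exists_isAffineOpen_mem_and_subset x.2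
      exact ⟨⟨U, hU⟩, hxU, hUV⟩
    choose U hxU hUV using hcov
    refine M1.modules_eq_of_locally_eq P' V (fun x => (U x).1) hUV
      (fun z hz => Opens.mem_iSup.2 ⟨⟨z, hz⟩, hxU ⟨z, hz⟩⟩) _ _ fun x => ?_
    show M1.mres P' (hUV x) ((kernel.ι φ ≫ ψ).app V s) = M1.mres P' (hUV x) 0
    rw [← M1.app_mres, map_zero]
    refine h (U x) _ ?_
    show (kernel.ι φ ≫ φ).app (U x).1 _ = 0
    rw [kernel.condition]
    rfl
  let hφ := Abelian.epiIsCokernelOfKernel (KernelFork.ofι (kernel.ι φ) (kernel.condition φ)) (kernelIsKernel φ)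
  let hψ := Abelian.epiIsCokernelOfKernel (KernelFork.ofι (kernel.ι ψ) (kernel.condition ψ)) (kernelIsKernel ψ)
  let a := hφ.desc (CokernelCofork.ofπ ψ (key φ ψ fun U r hr => (h U r).1 hr))
  let b := hψ.desc (CokernelCofork.ofπ φ (key ψ φ fun U r hr => (h U r).2 hr))
  have ha : φ ≫ a = ψ := hφ.fac _ WalkingParallelPair.one
  have hb : ψ ≫ b = φ := hψ.fac _ WalkingParallelPair.one
  exact ⟨⟨a, b, by rw [← cancel_epi φ, ← Category.assoc, ha, hb, Category.comp_id],
    by rw [← cancel_epi ψ, ← Category.assoc, hb, ha, Category.comp_id]⟩⟩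

/-- Scalars pass through the tensor product. -/
theorem tensorMap_smulHom {X : Scheme.{u}} (M N : X.Modules) (c : Γ(X, ⊤)) :
    M2.tensorMap (ThetaGrp19.smulHom M c) (𝟙 N) = ThetaGrp19.smulHom (CohB1.tensorMod M N) c := by
  refine M2.tensorMod_hom_ext fun U s t => ?_
  rw [M2.tensorMap_tsec, ThetaGrp19.smulHom_app, ThetaGrp19.smulHom_app, M2.tsec_smul_left]
  rfl

variable {A : Type u} [CommRing A] [IsNoetherianRing A] {X : Scheme.{u}} [X.Over (Spec (CommRingCat.of A))]
  [IsProper (X ↘ Spec (CommRingCat.of A))]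

theorem hv2_of_fibres
    (hfib : ∀ y : ↥(Spec (CommRingCat.of A)), topologicalKrullDim ↥((X ↘ Spec (CommRingCat.of A)).fiber y) ≤ 1)
    (M : X.Modules) (hM : Coh.IsQCoh M) : Subsingleton (Coh.HH X M 2) :=
  (CohFound.subsingleton_HH_iff M 2).2 (VanFib13.subsingleton_of_fibreDim (X ↘ Spec (CommRingCat.of A)) 1
    (fun y => (VanFib13.dim_fiber _ y).symm.trans_le (hfib y)) hM one_lt_two)

/-- Nonnegative degree on the curves over the residue field `K`. -/
def NefOver (A : Type u) [CommRing A] [X.Over (Spec (CommRingCat.of A))] (K : Type u) [Field K] (q : A →+* K)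
    (L : X.Modules) : Prop :=
  ∀ (J : X.IdealSheafData) (t : J.subscheme ⟶ Spec (CommRingCat.of K)),
    AlgebraicGeometry.IsIntegral J.subscheme → topologicalKrullDim J.subscheme = 1 →
    t ≫ Spec.map (CommRingCat.ofHom q) = J.subschemeι ≫ (X ↘ Spec (CommRingCat.of A)) →
    0 ≤ @Curv2.deg K _ J.subscheme ⟨t⟩ ((Scheme.Modules.pullback J.subschemeι).obj L) 1

/-- The fibre case. -/
theorem exists_section_fibre
    (hfib : ∀ y : ↥(Spec (CommRingCat.of A)), topologicalKrullDim ↥((X ↘ Spec (CommRingCat.of A)).fiber y) ≤ 1)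
    (h1 : Subsingleton (Coh.HH X (Coh.structureModule X) 1)) {L : X.Modules} (hL : PicF.IsInvertible L)
    {Q : X.Modules} (π : L ⟶ Q) [Epi π] (hQ : Coh.IsCoh Q) (hQ0 : ¬ IsZero Q)
    (K : Type u) [Field K] (q : A →+* K) (hq : Function.Surjective q) (hkill : ∀ a, q a = 0 → gact A Q a = 0)
    (hnef : NefOver A K q L) : ∃ s : Coh.structureModule X ⟶ Q, s ≠ 0 := by
  let f := X ↘ Spec (CommRingCat.of A)
  haveI : IsNoetherian X := CohFound.isNoetherian_of_isProper f
  obtain ⟨N, hN, ⟨eN⟩⟩ := M2.exists_inverse hL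
  have hNc := Snapper.isCoh_of_isInvertible hN
  let T := CohB1.tensorMod Q N
  have hT : Coh.IsCoh T := CurveCoh17.isCoh_tensor hQ hNc
  let φ : Coh.structureModule X ⟶ T := eN.inv ≫ M2.tensorMap π (𝟙 N)
  haveI : Epi (M2.tensorMap π (𝟙 N)) :=
    (CurveCoh17.shortExact_tensorR (epiSC_shortExact π) N (Snapper.flat_stalk hN)).epi_g
  haveI : Epi φ := epi_comp _ _
  obtain ⟨J, hJ⟩ := Algz3.exists_idealSheaf_ker hT.1 φ
  haveI := M2.epi_toSubscheme J
  obtain ⟨eT⟩ : Nonempty (T ≅ ClSub.quotMod J) := nonempty_iso_of_same_ker φ (ClSub.toSubscheme J) fun U r => by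
    rw [← hJ U r, ← Scheme.IdealSheafData.ker_subschemeι_app J U, RingHom.mem_ker]
    rfl
  let ι := J.subschemeι
  -- the subscheme lies over `K`
  have hker : ∀ a : A, q a = 0 → (ι ≫ f).appTop ((Scheme.ΓSpecIso (CommRingCat.of A)).inv a) = 0 := fun a ha => by
    refine (J.subscheme.sheaf.eq_of_locally_eq' (fun U : X.affineOpens => ι ⁻¹ᵁ U.1) ⊤ (fun U => homOfLE le_top)
      (fun z _ => by
        obtain ⟨U, hU, hzU, -⟩ := exists_isAffineOpen_mem_and_subset (U := (⊤ : X.Opens)) (x := ι z) trivial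
        exact Opens.mem_iSup.2 ⟨⟨U, hU⟩, hzU⟩) _ _ fun U => ?_)
    rw [map_zero]
    let c : Γ(X, ⊤) := Coh.toGlobal f a
    have hc : M1.ores (le_top : U.1 ≤ ⊤) c ∈ J.ideal U := by
      rw [hJ]
      have h0 : gact A T a = 0 := by
        show ThetaGrp19.smulHom T c = 0
        rw [← tensorMap_smulHom, show ThetaGrp19.smulHom Q c = 0 from hkill a ha]
        exact (M2.tensorR N).map_zero _ _
      have h2 := congrArg (fun ψ : T ⟶ T => ψ.app U.1 (φ.app U.1 (M1.one U.1))) h0
      simp only [gact, ThetaGrp19.smulHom_app] at h2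
      rw [← Scheme.Modules.Hom.app_smul] at h2
      refine Eq.trans ?_ h2
      congr 1
      exact (mul_one (M1.ores (le_top : U.1 ≤ ⊤) c : Γ(X, U.1))).symm
    rw [← Scheme.IdealSheafData.ker_subschemeι_app, RingHom.mem_ker] at hc
    refine Eq.trans ?_ hc
    exact (ConcreteCategory.congr_hom (ι.naturality (homOfLE (le_top : U.1 ≤ ⊤)).op) c).symm
  let g : A →+* Γ(J.subscheme, ⊤) :=
    ((Scheme.ΓSpecIso (CommRingCat.of A)).inv ≫ (ι ≫ f).appTop).hom
  let g' : K →+* Γ(J.subscheme, ⊤) := RingHom.liftOfSurjective q hq ⟨g, fun a ha => hker a ha⟩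
  have hg' : g'.comp q = g := RingHom.liftOfSurjective_comp q hq ⟨g, fun a ha => hker a ha⟩
  let t : J.subscheme ⟶ Spec (CommRingCat.of K) := J.subscheme.toSpecΓ ≫ Spec.map (CommRingCat.ofHom g')
  have ht : t ≫ Spec.map (CommRingCat.ofHom q) = ι ≫ f := by
    rw [Category.assoc, ← Spec.map_comp, ← CommRingCat.ofHom_comp, hg']
    refine Eq.trans ?_ (show J.subscheme.toSpecΓ ≫ Spec.map ((ι ≫ f).appTop) ≫
      Spec.map ((Scheme.ΓSpecIso (CommRingCat.of A)).inv) = ι ≫ f by
        rw [← Scheme.toSpecΓ_naturality_assoc]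
        simp)
    rw [← Spec.map_comp]
    rfl
  letI : J.subscheme.Over (Spec (CommRingCat.of K)) := ⟨t⟩
  haveI : IsClosedImmersion (Spec.map (CommRingCat.ofHom q)) := IsClosedImmersion.spec_of_surjective _ hq
  haveI : IsProper (t ≫ Spec.map (CommRingCat.ofHom q)) := by rw [ht]; infer_instance
  haveI : IsProper (J.subscheme ↘ Spec (CommRingCat.of K)) := IsProper.of_comp t (Spec.map (CommRingCat.ofHom q))
  haveI : Nonempty J.subscheme := by
    by_contra hne
    refine hQ0 (IsZero.of_iso ((M2.tensorR L).map_isZero (Snapper.isZero_of_support_empty (M := T) ?_)) ?_)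
    · refine Set.eq_empty_of_forall_notMem fun x hx => hx ⟨fun a b => ?_⟩
      obtain ⟨a', rfl⟩ := (M1.epi_iff_stalk eT.inv).1 inferInstance x a
      obtain ⟨b', rfl⟩ := (M1.epi_iff_stalk eT.inv).1 inferInstance x b
      have hnr : x ∉ Set.range ι := fun ⟨z, _⟩ => hne ⟨z⟩
      rw [M1.eq_zero_stalk_push ι _ hnr a', M1.eq_zero_stalk_push ι _ hnr b']
    · exact (M2.tensorRUnit Q).symm ≪≫ M2.tensorIso (Iso.refl Q) (eN.symm ≪≫ M2.tensorComm L N) ≪≫
        (M2.tensorAssoc Q N L).symm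
  -- dimension of the fibre
  let y : ↥(Spec (CommRingCat.of A)) := Spec.map (CommRingCat.ofHom q) ⟨⊥, Ideal.isPrime_bot⟩
  have hrange : ∀ z, ι z ∈ (f ⁻¹' {y} : Set X) := fun z => by
    show f (ι z) = y
    rw [← Scheme.Hom.comp_apply, ← ht, Scheme.Hom.comp_apply]
    exact congrArg _ (Subsingleton.elim _ _)
  have hdim : topologicalKrullDim J.subscheme ≤ 1 :=
    ((Topology.IsEmbedding.codRestrict ι.isEmbedding _ hrange).isInducing.topologicalKrullDim_le).trans
      ((VanFib13.dim_fiber f y).symm.trans_le (hfib y))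
  -- `H¹(O_Z) = 0`
  letI : J.subscheme.Over (Spec (CommRingCat.of A)) := ⟨ι ≫ f⟩
  have hZ1 : Subsingleton (Coh.HH J.subscheme (Coh.structureModule J.subscheme) 1) := by
    haveI := h1
    haveI := subsingleton_h1_of_epi A (hv2_of_fibres hfib) (ClSub.toSubscheme J) (M1.isQCoh_structureModule X)
      (CurveCoh17.isCoh_quotMod J).1
    haveI : (Coh.structureModule J.subscheme).IsQuasicoherent := M1.isQCoh_structureModule _
    obtain ⟨e⟩ := CurveCoh17.nonempty_hequiv_push A ι rfl (Coh.structureModule J.subscheme) 1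
    exact e.symm.toEquiv.subsingleton
  let LZ := (Scheme.Modules.pullback ι).obj L
  have hLZ : PicF.IsInvertible LZ := Twist.isInvertible_pullback ι hL
  haveI := nontrivial_h0 K hdim hZ1 hLZ fun C hC hC1 => by
    let j : C.subscheme ⟶ X := C.subschemeι ≫ ι
    haveI : IsClosedImmersion j := inferInstance
    obtain ⟨e, he⟩ := NumPoly18.exists_iso_subscheme j
    haveI : AlgebraicGeometry.IsIntegral C.subscheme := hC
    haveI : Nonempty j.ker.subscheme := ⟨e.hom.base (Classical.arbitrary C.subscheme)⟩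
    haveI : AlgebraicGeometry.IsIntegral j.ker.subscheme := isIntegral_of_isOpenImmersion e.inv
    letI : C.subscheme.Over (Spec (CommRingCat.of K)) := ⟨C.subschemeι ≫ t⟩
    letI : j.ker.subscheme.Over (Spec (CommRingCat.of K)) := ⟨e.inv ≫ C.subschemeι ≫ t⟩
    haveI : IsProper (t) := inferInstanceAs (IsProper (J.subscheme ↘ Spec (CommRingCat.of K)))
    haveI : IsProper (j.ker.subscheme ↘ Spec (CommRingCat.of K)) :=
      inferInstanceAs (IsProper (e.inv ≫ C.subschemeι ≫ t))
    have hj : e.inv ≫ j = j.ker.subschemeι := (Iso.inv_comp_eq e).2 he.symm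
    have hdimC : topologicalKrullDim j.ker.subscheme = 1 :=
      (e.inv.isOpenEmbedding.isEmbedding.isInducing.topologicalKrullDim_le.antisymm
        e.hom.isOpenEmbedding.isEmbedding.isInducing.topologicalKrullDim_le).trans hC1
    have h := hnef j.ker (e.inv ≫ C.subschemeι ≫ t) inferInstance hdimC (by
      rw [Category.assoc, Category.assoc, ht]
      refine Eq.trans ?_ (congrArg (· ≫ f) hj)
      simp [j])
    have h2 := deg_pullback_iso K (Y := j.ker.subscheme) e.hom
      (show e.hom ≫ e.inv ≫ C.subschemeι ≫ t = C.subschemeι ≫ t by simp)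
      (Twist.isInvertible_pullback j.ker.subschemeι hL)
    rw [← h2] at h
    refine h.trans_eq (CurveCoh17.deg_iso ?_)
    exact (Scheme.Modules.pullbackComp e.hom j.ker.subschemeι).app L ≪≫
      (Scheme.Modules.pullbackCongr (he : e.hom ≫ j.ker.subschemeι = C.subschemeι ≫ ι)).app L ≪≫
      ((Scheme.Modules.pullbackComp C.subschemeι ι).app L).symm
  haveI : LZ.IsQuasicoherent := (Snapper.isCoh_of_isInvertible hLZ).1
  haveI := AmpleFin18.isIso_projHom_of_ofRank ι L (Coh.structureModule J.subscheme)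
    ((M2.isInvertible_iff_isFinLocFreeOfRank_one L).1 hL)
  let eQ : Q ≅ (Scheme.Modules.pushforward ι).obj LZ :=
    (M2.tensorRUnit Q).symm ≪≫ M2.tensorIso (Iso.refl Q) (eN.symm ≪≫ M2.tensorComm L N) ≪≫
      (M2.tensorAssoc Q N L).symm ≪≫ M2.tensorIso eT (Iso.refl L) ≪≫ M2.tensorComm _ _ ≪≫
      asIso (AmpleFin18.projHom ι L (Coh.structureModule J.subscheme)) ≪≫
      (Scheme.Modules.pushforward ι).mapIso (M2.tensorRUnit LZ)
  obtain ⟨e₀⟩ := CurveCoh17.nonempty_hequiv_push A ι rfl LZ 0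
  haveI : Nontrivial (Coh.HH X Q 0) := ((hequiv A eQ 0).trans e₀).toEquiv.nontrivial
  obtain ⟨x, hx⟩ := exists_ne (0 : Coh.HH X Q 0)
  refine ⟨M1.secHom (hh0 Q x), fun h0 => hx ((hh0 Q).injective ?_)⟩
  rw [map_zero, ← M1.secHom_app_one (hh0 Q x), h0]
  rfl

end Groth.Agent.NefH1
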